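import Cfsg.Agent.BG.P11C

/-! BG Corollary 12.10 (helper57): `L12_10a`, `L12_10b₁`, `L12_10b₂`, `L12_10c`, `L12_10d`, `L12_10e` are proved in
the imported modules. -/
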