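import Cfsg.Agent.BG.P11E

set_option autoImplicit false

/-! (helper57) BG Lemma 12.11. -/

namespace Cfsg.Agent.BG

open Subgroup Cfsg

universe u

/-- BG 12.11 (mathcomp `primes_norm_tau2Elem`). -/
theorem L12_11 {G : Type u} [Group G] [Finite G] (hG : Cfsg.IsMinSimpleOddOrder G)
    (M : Subgroup G) (hM : IsCoatom M) (E : Subgroup G) (hE : Cfsg.IsComplIn E (Cfsg.sigmaCore M) M)
    (p : ℕ) [Fact p.Prime] (hp : p ∈ Cfsg.tau2 M) (A : Subgroup G)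
    (hA : A ≤ E ∧ Cfsg.IsElementaryAbelian p A ∧ Nat.card A = p ^ 2)
    (Mstar : Subgroup G) (hMs : IsCoatom Mstar) (hNA : Subgroup.normalizer (A : Set G) ≤ Mstar) :
    (∀ q ∈ Cfsg.tau2 M, q ∈ Cfsg.sigma Mstar ∧ q ∉ Cfsg.beta Mstar) ∧
      (∀ q : ℕ, q.Prime → q ∣ (E ⊓ Subgroup.centralizer (A : Set G)).relIndex E →
        q ∈ Cfsg.tau1 Mstar ∨ q ∈ Cfsg.tau2 Mstar) ∧
      ∀ (q : ℕ) [Fact q.Prime], q ∣ (E ⊓ Subgroup.centralizer (A : Set G)).relIndex E →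
        q ∣ Nat.card ↥(E ⊓ Subgroup.centralizer (A : Set G)) →
        q ∈ Cfsg.tau2 Mstar ∧
        (∃ P : Sylow p G, (P : Subgroup G) ≤ Mstar ∧ Mstar ≤ Subgroup.normalizer ((P : Subgroup G) : Set G)) ∧
        ∃ Q : Sylow q G, (Q : Subgroup G) ≤ Mstar ∧ IsMulCommutative (Q : Subgroup G) := by
  exact P11.L12_11' hG M hM E hE p hp A hA Mstar hMs hNA

end Cfsg.Agent.BG
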