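import Cfsg.Agent.BG.Sec12c
import Cfsg.Agent.BG.Sec12d

/-!
B & G, Theorem 12.5(a), Corollary 12.6 (both in `BG.Sec12c`) and Theorem 12.7 (in `BG.Sec12d`).
-/
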